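import Groth.Agent.Vancyc.H545.GmTors

/-!
# The `G_m`-torsor of a power of an invertible module and its `n`-th root

`exists_powGm`: `B` invertible on `Z`; there are `T' ⟶ T ⟶ Z`, locally on `Z` punctured lines and the `n`-th power
map, such that `B^{⊗ n}` is trivial on `T`.
-/

set_option autoImplicit false
universe u

open CategoryTheory CategoryTheory.Limits AlgebraicGeometry Opposite TopologicalSpace
open AlgebraicGeometry.Scheme.AffineZariskiSite AlgebraicGeometry.Scheme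

namespace Groth.Agent.Vancyc.H545.PowTorsor

open Groth.Agent.Fdesc.LocGen Groth.Agent.CohqB.AlgSys Groth.Agent.CohqB.AlgSym Groth.Agent.CohqB
open Groth.Agent.Vancyc.H545.Taut Groth.Agent.Vancyc.H545.UnitLoc Groth.Agent.Vancyc.H120.VBundle
open Groth.Agent.Vancyc.H29.GmBundle Groth.Agent.Vancyc.H29.InjGm Groth.Agent.Vancyc.H545.GmTors

section props

variable {X : Scheme.{u}} {M : X.Modules} (hM : Coh.IsQCoh M)

theorem smooth_π (h : PicF.IsInvertible M) : SmoothOfRelativeDimension 1 (π hM) := by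
  have h1 := smoothOfRelativeDimension_toX hM (m := 1)
    (Groth.Agent.Ega2.QCohLocal.isFinLocFreeOfRank_one_iff.2 h)
  have h2 : SmoothOfRelativeDimension 0 (TO hM).ι := inferInstance
  exact (inferInstance : SmoothOfRelativeDimension (0 + 1) ((TO hM).ι ≫ toX hM))

instance isSeparated_π : IsSeparated (π hM) := by
  have : IsAffineHom (toX hM) := isAffineHom_toX hM
  infer_instance

theorem isAffineOpen_gmO (R : CommRingCat.{u}) : IsAffineOpen (gmO (Spec R)) := by
  have h1 : gmO (Spec R) =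
      (𝔸(ULift.{u} (Fin 1); Spec R)).basicOpen (AffineSpace.coord (Spec R) ⟨0⟩) := by
    apply le_antisymm
    · refine iSup_le fun a => ?_
      rw [Subsingleton.elim a ⟨0⟩]
    · exact le_iSup (fun a : ULift.{u} (Fin 1) =>
        (𝔸(ULift.{u} (Fin 1); Spec R)).basicOpen (AffineSpace.coord _ a)) ⟨0⟩
  rw [h1]
  exact (isAffineOpen_top _).basicOpen _

theorem quasiCompact_qm (R : CommRingCat.{u}) : QuasiCompact (qm (Spec R)) := by
  have h1 : IsAffine (gmO (Spec R) : Scheme.{u}) := isAffineOpen_gmO R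
  infer_instance

/-- Affine neighbourhoods with a generator. -/
theorem exists_gen (h : PicF.IsInvertible M) (x : X) :
    ∃ (U : X.AffineZariskiSite) (e : Γ(M, U.toOpens)), x ∈ U.toOpens ∧ IsGen e := by
  obtain ⟨W, e, hx, he⟩ := (isInvertible_iff M).1 h x
  obtain ⟨_, ⟨U, hU, rfl⟩, hxU, hUW⟩ :=
    X.isBasis_affineOpens.exists_subset_of_mem_open hx W.isOpen
  exact ⟨⟨U, hU⟩, res M hUW e, hxU, he.res _⟩

theorem quasiCompact_π (h : PicF.IsInvertible M) : QuasiCompact (π hM) := by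
  choose U e hU he using exists_gen h
  let 𝒰 : X.OpenCover :=
    { I₀ := X
      X := fun x => Spec Γ(X, (U x).toOpens)
      f := fun x => (RelSpec.isAff (U x)).fromSpec
      mem₀ := by
        rw [presieve₀_mem_precoverage_iff]
        refine ⟨fun w => ⟨w, ?_⟩, inferInstance⟩
        rw [(RelSpec.isAff (U w)).range_fromSpec]
        exact hU w }
  rw [IsZariskiLocalAtTarget.iff_of_openCover (P := @QuasiCompact) 𝒰]
  intro z
  have h1 := isPullback_jj hM (U z) (he z)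
  have h3 : pullback.snd (π hM) (RelSpec.isAff (U z)).fromSpec = h1.isoPullback.inv ≫
      qm (Spec Γ(X, (U z).toOpens)) := by simp
  change QuasiCompact (pullback.snd (π hM) (RelSpec.isAff (U z)).fromSpec)
  have h4 := quasiCompact_qm Γ(X, (U z).toOpens)
  rw [h3]
  infer_instance

end props

section power

variable {Z : Scheme.{u}} {B : Z.Modules} (hB : PicF.IsInvertible B) (hq : Coh.IsQCoh B) (n : ℕ)
  (hq' : Coh.IsQCoh (CohB1.tensorPow B n))

include hB in
theorem range_le : Set.range (toV hq' (π hq) (pw (π hq) (ρT hq) n)) ⊆ Set.range (TO hq').ι := by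
  rintro _ ⟨y, rfl⟩
  rw [Scheme.Opens.range_ι]
  have h1 := uO_comp (π hq) (toX hq') (toV hq' (π hq) (pw (π hq) (ρT hq) n)) (toV_toX _ _ _)
    (taut hq')
  rw [taut_Omap, uO_pw (π hq) hB (ρT hq) (uO_ρT hq) n] at h1
  have h2 : y ∈ toV hq' (π hq) (pw (π hq) (ρT hq) n) ⁻¹ᵁ TO hq' := by
    rw [h1]
    trivial
  exact h2

/-- The `n`-th power map. -/
noncomputable def nu : ((TO hq : (V hq).Opens) : Scheme.{u}) ⟶ ((TO hq' : (V hq').Opens) : Scheme.{u}) :=
  IsOpenImmersion.lift (TO hq').ι (toV hq' (π hq) (pw (π hq) (ρT hq) n)) (range_le hB hq n hq')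

theorem nu_ι : nu hB hq n hq' ≫ (TO hq').ι = toV hq' (π hq) (pw (π hq) (ρT hq) n) :=
  IsOpenImmersion.lift_fac _ _ _

theorem nu_π : nu hB hq n hq' ≫ π hq' = π hq := by
  rw [← Category.assoc, nu_ι, toV_toX]

theorem ρT_nu : ρT hq' ≫ Omap (π hq) (π hq') (nu hB hq n hq') (nu_π hB hq n hq') =
    pw (π hq) (ρT hq) n := by
  rw [ρT, Category.assoc, Omap_comp]
  have h : ∀ (t : ((TO hq : (V hq).Opens) : Scheme.{u}) ⟶ V hq') (ht : t ≫ toX hq' = π hq)
      (_ : t = toV hq' (π hq) (pw (π hq) (ρT hq) n)),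
      taut hq' ≫ Omap (π hq) (toX hq') t ht = pw (π hq) (ρT hq) n := by
    rintro t ht rfl
    exact taut_Omap hq' (π hq) (pw (π hq) (ρT hq) n)
  exact h _ _ (nu_ι hB hq n hq')

theorem nu_va {U : Z.Opens} (e : Γ(B, U)) :
    ((nu hB hq n hq').appLE (π hq' ⁻¹ᵁ U) (π hq ⁻¹ᵁ U)
      (le_preimage (π hq) (π hq') (nu hB hq n hq') (nu_π hB hq n hq') U)).hom
      (va (π hq') (ρT hq') (pow e n)) = va (π hq) (ρT hq) e ^ n := by
  rw [← va_pw, ← ρT_nu hB hq n hq']
  rfl

theorem powGm : PowGm (π hq') (nu hB hq n hq') n := by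
  intro z
  obtain ⟨U, e, hz, he⟩ := exists_gen hB z
  have hp := isPullback_jj hq' U (he.pow n)
  have hp' := isPullback_jj hq U he
  obtain ⟨v, hv⟩ : z ∈ Set.range (RelSpec.isAff U).fromSpec := by
    rw [(RelSpec.isAff U).range_fromSpec]
    exact hz
  have hw : (jj hq U he ≫ nu hB hq n hq') ≫ π hq' =
      qm (Spec Γ(Z, U.toOpens)) ≫ (RelSpec.isAff U).fromSpec := by
    rw [Category.assoc, nu_π]
    exact hp'.w
  refine ⟨Spec Γ(Z, U.toOpens), (RelSpec.isAff U).fromSpec, inferInstance, v, jj hq' U (he.pow n),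
    jj hq U he, hp.lift (jj hq U he ≫ nu hB hq n hq') (qm _) hw, cd _, hv, hp, ?_,
    hp.lift_snd _ _ _, (hp.lift_fst _ _ _).symm, ?_⟩
  · rw [nu_π]
    exact hp'
  · let p := hp.lift (jj hq U he ≫ nu hB hq n hq') (qm _) hw
    have hpj : p ≫ jj hq' U (he.pow n) = jj hq U he ≫ nu hB hq n hq' := hp.lift_fst _ _ _
    have e1 := Scheme.Hom.appLE_comp_appLE p (jj hq' U (he.pow n)) (π hq' ⁻¹ᵁ U.toOpens) ⊤ ⊤
      (top_le_jj hq' U (he.pow n)) le_top
    have e2 := Scheme.Hom.appLE_comp_appLE (jj hq U he) (nu hB hq n hq') (π hq' ⁻¹ᵁ U.toOpens)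
      (π hq ⁻¹ᵁ U.toOpens) ⊤ (le_preimage (π hq) (π hq') (nu hB hq n hq') (nu_π hB hq n hq')
        U.toOpens) (top_le_jj hq U he)
    have e3 := Groth.Agent.Ega2.H280.RelSpecAlg.appLE_congr_hom hpj (π hq' ⁻¹ᵁ U.toOpens) ⊤
      (le_top.trans (p.preimage_mono (top_le_jj hq' U (he.pow n))))
    have e4 : p.appLE ⊤ ⊤ le_top = p.appTop := Scheme.Hom.appLE_eq_app _
    rw [e4] at e1
    change p.appTop.hom (cd (Spec Γ(Z, U.toOpens))).val = _
    rw [← jj_taut hq' U (he.pow n)]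
    refine (congr($(e1.trans (e3.trans e2.symm)).hom (va (π hq') (ρT hq') (pow e n)))).trans ?_
    refine (congrArg ((jj hq U he).appLE (π hq ⁻¹ᵁ U.toOpens) ⊤ (top_le_jj hq U he)).hom
      (nu_va hB hq n hq' e)).trans ?_
    rw [map_pow, jj_taut hq U he]
    exact (Units.val_pow_eq_pow_val _ _).symm

end power

/-- **The torsor of `B^{⊗ n}` and its `n`-th root.** -/
theorem exists_powGm {Z : Scheme.{u}} {B : Z.Modules} (hB : PicF.IsInvertible B) (n : ℕ) [NeZero n] :
    ∃ (T T' : Scheme.{u}) (π : T ⟶ Z) (ν : T' ⟶ T), PowGm π ν n ∧ SmoothOfRelativeDimension 1 π ∧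
      QuasiCompact π ∧ IsSeparated π ∧
      Nonempty ((Scheme.Modules.pullback π).obj (CohB1.tensorPow B n) ≅ Coh.structureModule T) := by
  have hq : Coh.IsQCoh B := Groth.Agent.Ega2.QCohLocal.isQCoh_of_isInvertible hB
  have hB' : PicF.IsInvertible (CohB1.tensorPow B n) := isInvertible_tensorPow hB n
  have hq' : Coh.IsQCoh (CohB1.tensorPow B n) := Groth.Agent.Ega2.QCohLocal.isQCoh_of_isInvertible hB'
  exact ⟨_, _, π hq', nu hB hq n hq', powGm hB hq n hq', smooth_π hq' hB', quasiCompact_π hq' hB',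
    isSeparated_π hq', nonempty_iso (π hq') (ρT hq') hB' (uO_ρT hq')⟩

end Groth.Agent.Vancyc.H545.PowTorsor
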