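import Groth.Agent.CohqB.AlgSys
import Groth.Agent.Fdesc.LocGenGlue
import Groth.Agent.Ega2.Tens
import Groth.Prelude.Def_ClSub2

/-!
# Linear maps `M ⟶ h_* O_Y` with invertible values

* `uO h ρ`: the open of `Y` where `ρ : M ⟶ h_* O_Y` has invertible values; `uO_comp`, `mem_uO_iff`;
* `nonempty_iso`: if `M` is invertible and `uO h ρ = ⊤` then `h^* M ≅ O_Y`;
* `pw ρ n : M^{⊗ n} ⟶ h_* O_Y`, `pw_pow`: the `n`-th power of `ρ`.
-/

set_option autoImplicit false
universe u

open CategoryTheory CategoryTheory.Limits AlgebraicGeometry Opposite TopologicalSpace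

namespace Groth.Agent.Vancyc.H545.UnitLoc

open Groth.Agent.Fdesc.LocGen Groth.Agent.CohqB.AlgSys

variable {X Y Y' : Scheme.{u}} {M : X.Modules}

section uO

variable (h : Y ⟶ X) (ρ : M ⟶ Oalg h)

/-- The value of a linear map at a section. -/
noncomputable abbrev va {U : X.Opens} (m : Γ(M, U)) : Γ(Y, h ⁻¹ᵁ U) := toFun h U (ρ.app U m)

theorem va_smul {U : X.Opens} (a : Γ(X, U)) (m : Γ(M, U)) :
    va h ρ (a • m) = (h.app U).hom a * va h ρ m := by
  unfold va
  rw [Scheme.Modules.Hom.app_smul, toFun_smul]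

theorem va_res {U V : X.Opens} (i : V ≤ U) (m : Γ(M, U)) :
    va h ρ (res M i m) = ores (h.preimage_mono i) (va h ρ m) := by
  unfold va
  rw [app_res]
  rfl

/-- The open where `ρ` has invertible values. -/
noncomputable def uO : Y.Opens := ⨆ (U : X.Opens), ⨆ (m : Γ(M, U)), Y.basicOpen (va h ρ m)

theorem mem_uO (y : Y) : y ∈ uO h ρ ↔ ∃ (U : X.Opens) (m : Γ(M, U)), y ∈ Y.basicOpen (va h ρ m) := by
  unfold uO
  rw [Opens.mem_iSup]
  exact exists_congr fun U => Opens.mem_iSup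

theorem basicOpen_le_uO {U : X.Opens} (m : Γ(M, U)) : Y.basicOpen (va h ρ m) ≤ uO h ρ :=
  fun y hy => (mem_uO h ρ y).2 ⟨U, m, hy⟩

variable {h ρ} in
theorem mem_uO_iff {y : Y} {U : X.Opens} (hy : h y ∈ U) {e : Γ(M, U)} (he : IsGen e) :
    y ∈ uO h ρ ↔ y ∈ Y.basicOpen (va h ρ e) := by
  refine ⟨fun H => ?_, fun H => basicOpen_le_uO h ρ e H⟩
  obtain ⟨U₁, m, hm⟩ := (mem_uO h ρ y).1 H
  have hy₁ : h y ∈ U₁ := Y.basicOpen_le _ hm
  obtain ⟨a, ha⟩ := (he.res (inf_le_left : U ⊓ U₁ ≤ U)).exists_eq (res M inf_le_right m)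
  have h1 : y ∈ Y.basicOpen (va h ρ (res M (inf_le_right : U ⊓ U₁ ≤ U₁) m)) := by
    rw [va_res]
    exact (Y.basicOpen_res (va h ρ m) (homOfLE (h.preimage_mono inf_le_right)).op).ge
      ⟨⟨hy, hy₁⟩, hm⟩
  rw [ha, va_smul, Scheme.basicOpen_mul] at h1
  have h2 := h1.2
  rw [va_res] at h2
  exact ((Y.basicOpen_res (va h ρ e) (homOfLE (h.preimage_mono inf_le_left)).op).le h2).2

variable {h ρ} in
theorem uO_inf {U : X.Opens} {e : Γ(M, U)} (he : IsGen e) :
    uO h ρ ⊓ h ⁻¹ᵁ U = Y.basicOpen (va h ρ e) := by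
  apply le_antisymm
  · intro y hy
    exact (mem_uO_iff hy.2 he).1 hy.1
  · intro y hy
    have h1 : y ∈ h ⁻¹ᵁ U := Y.basicOpen_le (va h ρ e) hy
    exact ⟨(mem_uO_iff h1 he).2 hy, h1⟩

theorem isUnit_of_basicOpen_eq {U : Y.Opens} (f : Γ(Y, U)) (hf : U ≤ Y.basicOpen f) : IsUnit f :=
  RingedSpace.isUnit_of_isUnit_germ (X := Y.toRingedSpace) U f fun x hx =>
    (Y.mem_basicOpen f x hx).1 (hf hx)

variable {h ρ} in
theorem isUnit_va (H : uO h ρ = ⊤) {U : X.Opens} {e : Γ(M, U)} (he : IsGen e) :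
    IsUnit (va h ρ e) := by
  apply isUnit_of_basicOpen_eq
  rw [← uO_inf he, H, top_inf_eq]

end uO

/-- Inverse image of the open of invertibility. -/
theorem uO_comp (h : Y ⟶ X) (h' : Y' ⟶ X) (t : Y ⟶ Y') (ht : t ≫ h' = h) (ρ' : M ⟶ Oalg h') :
    t ⁻¹ᵁ uO h' ρ' = uO h (ρ' ≫ Omap h h' t ht) := by
  subst ht
  unfold uO
  rw [Scheme.Hom.preimage_iSup]
  refine iSup_congr fun U => ?_
  rw [Scheme.Hom.preimage_iSup]
  refine iSup_congr fun m => ?_
  rw [Scheme.preimage_basicOpen]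
  congr 1
  rw [Scheme.Hom.app_eq_appLE]
  rfl

section triv

variable (h : Y ⟶ X) (ρ : M ⟶ Oalg h)

/-- **Trivialization.** -/
theorem nonempty_iso (hM : PicF.IsInvertible M) (H : uO h ρ = ⊤) :
    Nonempty ((Scheme.Modules.pullback h).obj M ≅ Coh.structureModule Y) := by
  rw [isInvertible_iff] at hM
  choose U e hxU he using hM
  have hu : ∀ x, IsUnit (va h ρ (e x)) := fun x => isUnit_va H (he x)
  let s : ∀ x, Γ((Scheme.Modules.pullback h).obj M, h ⁻¹ᵁ U x) := fun x =>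
    (((hu x).unit⁻¹ : Γ(Y, h ⁻¹ᵁ U x)ˣ) : Γ(Y, h ⁻¹ᵁ U x)) • pullSec h (e x)
  have hs : ∀ x, va h ρ (e x) • s x = pullSec h (e x) := fun x => by
    change va h ρ (e x) • (((hu x).unit⁻¹ : Γ(Y, h ⁻¹ᵁ U x)ˣ) : Γ(Y, h ⁻¹ᵁ U x)) • pullSec h (e x) = _
    rw [smul_smul, (hu x).mul_val_inv, one_smul]
  have hcov : (⊤ : Y.Opens) ≤ ⨆ x : X, h ⁻¹ᵁ U x := fun y _ => Opens.mem_iSup.mpr ⟨h y, hxU (h y)⟩
  obtain ⟨t, ht⟩ := res_glue ((Scheme.Modules.pullback h).obj M) (fun x : X => h ⁻¹ᵁ U x)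
    (fun _ => le_top) hcov s (by
      intro i j
      have key : res ((Scheme.Modules.pullback h).obj M)
          (h.preimage_mono (inf_le_left : U i ⊓ U j ≤ U i)) (s i) =
          res ((Scheme.Modules.pullback h).obj M)
            (h.preimage_mono (inf_le_right : U i ⊓ U j ≤ U j)) (s j) := by
        obtain ⟨c, hc⟩ := ((he j).res (inf_le_right : U i ⊓ U j ≤ U j)).exists_eq
          (res M (inf_le_left : U i ⊓ U j ≤ U i) (e i))
        have hui : IsUnit (ores (h.preimage_mono (inf_le_left : U i ⊓ U j ≤ U i))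
            (va h ρ (e i))) := (hu i).map _
        have h1 := congr(res ((Scheme.Modules.pullback h).obj M)
          (h.preimage_mono (inf_le_left : U i ⊓ U j ≤ U i)) $(hs i))
        have h2 := congr(res ((Scheme.Modules.pullback h).obj M)
          (h.preimage_mono (inf_le_right : U i ⊓ U j ≤ U j)) $(hs j))
        rw [res_smul, res_pullSec h (inf_le_left : U i ⊓ U j ≤ U i)] at h1
        rw [res_smul, res_pullSec h (inf_le_right : U i ⊓ U j ≤ U j)] at h2
        have h5 : ores (h.preimage_mono (inf_le_left : U i ⊓ U j ≤ U i)) (va h ρ (e i)) =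
            (h.app (U i ⊓ U j)).hom c *
              ores (h.preimage_mono (inf_le_right : U i ⊓ U j ≤ U j)) (va h ρ (e j)) := by
          rw [← va_res h ρ (inf_le_left : U i ⊓ U j ≤ U i), ← va_res h ρ
            (inf_le_right : U i ⊓ U j ≤ U j), hc, va_smul]
        refine hui.smul_left_cancel.1 ?_
        rw [h1, hc, pullSec_smul, ← h2, h5, mul_smul]
      exact key)
  have hgen : IsGen t := by
    refine IsGen.of_cover (fun x : X => h ⁻¹ᵁ U x) (fun _ => le_top) hcov fun x => ?_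
    rw [ht x]
    exact ((he x).pullSec h).unit_smul (Units.isUnit _)
  have h1 : IsIso (homOf t) := (isIso_iff_isGen _).2 (by rw [sec_homOf]; exact hgen.res _)
  exact ⟨(asIso (homOf t)).symm⟩

end triv

section pow

variable (h : Y ⟶ X)

/-- The product of two linear maps with values in functions. -/
noncomputable def mulL {N : X.Modules} (ρ : M ⟶ Oalg h) (σ : N ⟶ Oalg h) (U : X.Opens) :
    Γ(M, U) →ₗ[Γ(X, U)] Γ(N, U) →ₗ[Γ(X, U)] Γ(Oalg h, U) :=
  LinearMap.mk₂ _ (fun m n => (toFun h U).symm (va h ρ m * va h σ n))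
    (fun m m' n => by
      have : va h ρ (m + m') = va h ρ m + va h ρ m' := by
        unfold va
        rw [map_add, map_add]
      rw [this, add_mul]
      rfl)
    (fun r m n => by
      rw [va_smul, mul_assoc]
      rfl)
    (fun m n n' => by
      have : va h σ (n + n') = va h σ n + va h σ n' := by
        unfold va
        rw [map_add, map_add]
      rw [this, mul_add]
      rfl)
    (fun r m n => by
      rw [va_smul, mul_left_comm]
      rfl)

/-- The product of two linear maps, on the tensor product. -/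
noncomputable def mulT {N : X.Modules} (ρ : M ⟶ Oalg h) (σ : N ⟶ Oalg h) :
    CohB1.tensorMod M N ⟶ Oalg h :=
  Groth.Agent.Ega2.Tens.lift (mulL h ρ σ) (by
    intro U V i m n
    have h1 := va_res h ρ i.le m
    have h2 := va_res h σ i.le n
    apply (toFun h V).injective
    change ores (h.preimage_mono i.le) (va h ρ m * va h σ n) =
      va h ρ (res M i.le m) * va h σ (res N i.le n)
    rw [h1, h2, map_mul])

theorem va_mulT {N : X.Modules} (ρ : M ⟶ Oalg h) (σ : N ⟶ Oalg h) {U : X.Opens} (m : Γ(M, U))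
    (n : Γ(N, U)) : va h (mulT h ρ σ) (tmul m n) = va h ρ m * va h σ n :=
  congrArg (toFun h U) (Groth.Agent.Ega2.Tens.lift_tmul (mulL h ρ σ) _ U m n)

/-- The powers of a linear map. -/
noncomputable def pw (ρ : M ⟶ Oalg h) : (n : ℕ) → (CohB1.tensorPow M n ⟶ Oalg h)
  | 0 => ClSub.unitToPush h
  | n + 1 => mulT h (pw ρ n) ρ

theorem va_pw (ρ : M ⟶ Oalg h) (n : ℕ) {U : X.Opens} (m : Γ(M, U)) :
    va h (pw h ρ n) (pow m n) = va h ρ m ^ n := by
  induction n with
  | zero =>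
    rw [_root_.pow_zero]
    exact map_one (h.app U).hom
  | succ n ih =>
    rw [_root_.pow_succ, ← ih]
    exact va_mulT h (pw h ρ n) ρ (pow m n) m

/-- The power of a linear map with invertible values. -/
theorem uO_pw (hM : PicF.IsInvertible M) (ρ : M ⟶ Oalg h) (H : uO h ρ = ⊤) (n : ℕ) :
    uO h (pw h ρ n) = ⊤ := by
  rw [isInvertible_iff] at hM
  rw [eq_top_iff]
  intro y _
  obtain ⟨U, e, hx, he⟩ := hM (h y)
  rw [mem_uO_iff hx (he.pow n), va_pw, Scheme.basicOpen_of_isUnit _ ((isUnit_va H he).pow n)]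
  exact hx

end pow

end Groth.Agent.Vancyc.H545.UnitLoc
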