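import Groth.Agent.Vancyc.H545.Taut
import Groth.Agent.Vancyc.H545.UnitLoc
import Groth.Agent.Vancyc.H120.VBundle2
import Groth.Agent.Vancyc.H29.InjGm
import Groth.Agent.Ega2.QCohLocal

/-!
# The `G_m`-torsor of an invertible module

`TO hM ⊂ V(M)`, the open where the tautological linear map has invertible values, `π hM : TO hM ⟶ X`,
`ρT hM : M ⟶ (π hM)_* O`.
-/

set_option autoImplicit false
universe u

open CategoryTheory CategoryTheory.Limits AlgebraicGeometry Opposite TopologicalSpace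
open AlgebraicGeometry.Scheme.AffineZariskiSite AlgebraicGeometry.Scheme

namespace Groth.Agent.Vancyc.H545.GmTors

open Groth.Agent.Fdesc.LocGen Groth.Agent.CohqB.AlgSys Groth.Agent.CohqB.AlgSym Groth.Agent.CohqB
open Groth.Agent.Vancyc.H545.Taut Groth.Agent.Vancyc.H545.UnitLoc Groth.Agent.Vancyc.H120.VBundle
open Groth.Agent.Vancyc.H29.GmBundle Groth.Agent.Vancyc.H29.InjGm

variable {X : Scheme.{u}} {M : X.Modules} (hM : Coh.IsQCoh M)

/-- The open where the tautological map is invertible. -/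
noncomputable abbrev TO : (V hM).Opens := uO (toX hM) (taut hM)

/-- The torsor. -/
noncomputable abbrev π : ((TO hM : (V hM).Opens) : Scheme.{u}) ⟶ X := (TO hM).ι ≫ toX hM

/-- The tautological linear map of the torsor. -/
noncomputable def ρT : M ⟶ Oalg (π hM) := taut hM ≫ Omap (π hM) (toX hM) (TO hM).ι rfl

theorem uO_ρT : uO (π hM) (ρT hM) = ⊤ := by
  rw [ρT, ← uO_comp]
  simp

section chart

variable (U : X.AffineZariskiSite) {e : Γ(M, U.toOpens)} (he : IsGen e)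

/-- The basis given by a generator. -/
noncomputable def bas : Module.Basis (ULift.{u} (Fin 1)) Γ(X, U.toOpens) Γ(M, U.toOpens) :=
  (Module.Basis.singleton (ULift.{u} (Fin 1)) Γ(X, U.toOpens)).map
    (LinearEquiv.ofBijective (LinearMap.toSpanSingleton _ _ e) he.bijective)

theorem bas_apply (a : ULift.{u} (Fin 1)) : bas U he a = e := by
  unfold bas
  rw [Module.Basis.map_apply, Module.Basis.singleton_apply]
  exact one_smul _ _

/-- The symmetric algebra is a polynomial ring. -/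
noncomputable def eqv : SymmetricAlgebra Γ(X, U.toOpens) Γ(M, U.toOpens) ≃+*
    MvPolynomial (ULift.{u} (Fin 1)) Γ(X, U.toOpens) :=
  (SymmetricAlgebra.equivMvPolynomial (bas U he)).toRingEquiv

theorem eqv_algebraMap (r : Γ(X, U.toOpens)) : eqv U he (algebraMap _ _ r) = MvPolynomial.C r :=
  (SymmetricAlgebra.equivMvPolynomial (bas U he)).commutes r

theorem eqv_ι (a : ULift.{u} (Fin 1)) :
    eqv U he (SymmetricAlgebra.ι _ _ e) = MvPolynomial.X a := by
  have h := SymmetricAlgebra.equivMvPolynomial_ι_apply (bas U he) a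
  rw [bas_apply] at h
  exact h

/-- The chart of the line bundle given by a generator. -/
noncomputable def aa : 𝔸(ULift.{u} (Fin 1); Spec Γ(X, U.toOpens)) ⟶ V hM :=
  (AffineSpace.SpecIso (ULift.{u} (Fin 1)) Γ(X, U.toOpens)).hom ≫
    Spec.map (CommRingCat.ofHom (eqv U he).toRingHom) ≫ ch hM U

/-- The isomorphism `A^1 ≅ Spec Sym`. -/
noncomputable abbrev th : 𝔸(ULift.{u} (Fin 1); Spec Γ(X, U.toOpens)) ⟶
    Spec (CommRingCat.of (SymmetricAlgebra Γ(X, U.toOpens) Γ(M, U.toOpens))) :=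
  (AffineSpace.SpecIso (ULift.{u} (Fin 1)) Γ(X, U.toOpens)).hom ≫
    Spec.map (CommRingCat.ofHom (eqv U he).toRingHom)

instance isIso_th : IsIso (th U he) := by
  have h2 : IsIso (CommRingCat.ofHom (eqv U he).toRingHom) := (eqv U he).toCommRingCatIso.isIso_hom
  have h3 : IsIso (Spec.map (CommRingCat.ofHom (eqv U he).toRingHom)) := inferInstance
  infer_instance

theorem th_over : th U he ≫ Spec.map (CommRingCat.ofHom (algebraMap Γ(X, U.toOpens)
      (SymmetricAlgebra Γ(X, U.toOpens) Γ(M, U.toOpens)))) =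
    (𝔸(ULift.{u} (Fin 1); Spec Γ(X, U.toOpens)) ↘ Spec Γ(X, U.toOpens)) := by
  have h1 : (eqv U he).toRingHom.comp (algebraMap Γ(X, U.toOpens)
      (SymmetricAlgebra Γ(X, U.toOpens) Γ(M, U.toOpens))) = MvPolynomial.C :=
    RingHom.ext fun r => eqv_algebraMap U he r
  have h2 := AffineSpace.SpecIso_inv_over (n := ULift.{u} (Fin 1)) Γ(X, U.toOpens)
  rw [Category.assoc, ← Spec.map_comp, ← CommRingCat.ofHom_comp, h1, ← h2, Iso.hom_inv_id_assoc]

theorem aa_eq : aa hM U he = th U he ≫ ch hM U := (Category.assoc _ _ _).symm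

theorem isPullback_aa : IsPullback (aa hM U he)
    (𝔸(ULift.{u} (Fin 1); Spec Γ(X, U.toOpens)) ↘ Spec Γ(X, U.toOpens)) (toX hM)
    (RelSpec.isAff U).fromSpec := by
  refine (isPullback_ch hM U).of_iso (asIso (th U he)).symm (Iso.refl _) (Iso.refl _) (Iso.refl _)
    ?_ ?_ ?_ ?_
  · rw [Iso.symm_hom, asIso_inv, aa_eq, IsIso.inv_hom_id_assoc]
    exact Category.comp_id _
  · rw [Iso.symm_hom, asIso_inv, ← th_over U he, IsIso.inv_hom_id_assoc]
    exact Category.comp_id _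
  · exact (Category.comp_id _).trans (Category.id_comp _).symm
  · exact (Category.comp_id _).trans (Category.id_comp _).symm

theorem top_le_aa : (⊤ : (𝔸(ULift.{u} (Fin 1); Spec Γ(X, U.toOpens))).Opens) ≤
    aa hM U he ⁻¹ᵁ (toX hM ⁻¹ᵁ U.toOpens) := by
  rw [← Scheme.Hom.comp_preimage, (isPullback_aa hM U he).w, Scheme.Hom.comp_preimage,
    (RelSpec.isAff U).fromSpec_preimage_self]
  exact le_rfl

theorem ch_taut : ((ch hM U).appLE (toX hM ⁻¹ᵁ U.toOpens) ⊤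
      (Groth.Agent.Ega2.H280.RelSpecAlg.top_le (coequifibered hM) U)).hom
      (va (toX hM) (taut hM) e) =
    (Scheme.ΓSpecIso (CommRingCat.of (SymmetricAlgebra Γ(X, U.toOpens) Γ(M, U.toOpens)))).inv.hom
      (SymmetricAlgebra.ι _ _ e) := by
  have h1 := sc_taut hM U e
  rw [← h1]
  have h2 : ((ch hM U).appLE (toX hM ⁻¹ᵁ U.toOpens) ⊤
      (Groth.Agent.Ega2.H280.RelSpecAlg.top_le (coequifibered hM) U) ≫
      (Scheme.ΓSpecIso (CommRingCat.of (SymmetricAlgebra Γ(X, U.toOpens) Γ(M, U.toOpens)))).hom) ≫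
      (Scheme.ΓSpecIso (CommRingCat.of (SymmetricAlgebra Γ(X, U.toOpens) Γ(M, U.toOpens)))).inv =
      (ch hM U).appLE (toX hM ⁻¹ᵁ U.toOpens) ⊤
        (Groth.Agent.Ega2.H280.RelSpecAlg.top_le (coequifibered hM) U) := by
    rw [Category.assoc, Iso.hom_inv_id, Category.comp_id]
  exact (congr($(h2).hom (va (toX hM) (taut hM) e))).symm

theorem th_ι : (th U he).appTop.hom
    ((Scheme.ΓSpecIso (CommRingCat.of (SymmetricAlgebra Γ(X, U.toOpens) Γ(M, U.toOpens)))).inv.hom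
      (SymmetricAlgebra.ι _ _ e)) = AffineSpace.coord _ ⟨0⟩ := by
  rw [Scheme.Hom.comp_appTop]
  have h1 := Scheme.ΓSpecIso_inv_naturality (CommRingCat.ofHom (eqv U he).toRingHom)
  have h2 : (Spec.map (CommRingCat.ofHom (eqv U he).toRingHom)).appTop.hom
      ((Scheme.ΓSpecIso (CommRingCat.of (SymmetricAlgebra Γ(X, U.toOpens) Γ(M, U.toOpens)))).inv.hom
        (SymmetricAlgebra.ι _ _ e)) =
      (Scheme.ΓSpecIso (CommRingCat.of (MvPolynomial (ULift.{u} (Fin 1)) Γ(X, U.toOpens)))).inv.hom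
        (MvPolynomial.X ⟨0⟩) := by
    refine (congr($(h1).hom (SymmetricAlgebra.ι _ _ e))).symm.trans ?_
    exact congrArg (Scheme.ΓSpecIso (CommRingCat.of
      (MvPolynomial (ULift.{u} (Fin 1)) Γ(X, U.toOpens)))).inv.hom (eqv_ι U he ⟨0⟩)
  have h3 := AffineSpace.SpecIso_inv_appTop_coord (n := ULift.{u} (Fin 1)) Γ(X, U.toOpens) ⟨0⟩
  have h4 : ((AffineSpace.SpecIso (ULift.{u} (Fin 1)) Γ(X, U.toOpens)).inv.appTop ≫
      (AffineSpace.SpecIso (ULift.{u} (Fin 1)) Γ(X, U.toOpens)).hom.appTop) = 𝟙 _ := by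
    rw [← Scheme.Hom.comp_appTop, Iso.hom_inv_id, Scheme.Hom.id_appTop]
  refine (congrArg (AffineSpace.SpecIso (ULift.{u} (Fin 1)) Γ(X, U.toOpens)).hom.appTop.hom
    (h2.trans h3.symm)).trans ?_
  exact congr($(h4).hom (AffineSpace.coord _ ⟨0⟩))

/-- The tautological function is the coordinate. -/
theorem aa_taut : ((aa hM U he).appLE (toX hM ⁻¹ᵁ U.toOpens) ⊤ (top_le_aa hM U he)).hom
    (va (toX hM) (taut hM) e) = AffineSpace.coord _ ⟨0⟩ := by
  have h1 := Scheme.Hom.appLE_comp_appLE (th U he) (ch hM U) (toX hM ⁻¹ᵁ U.toOpens) ⊤ ⊤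
    (Groth.Agent.Ega2.H280.RelSpecAlg.top_le (coequifibered hM) U) le_top
  have h2 : (aa hM U he).appLE (toX hM ⁻¹ᵁ U.toOpens) ⊤ (top_le_aa hM U he) =
      (ch hM U).appLE (toX hM ⁻¹ᵁ U.toOpens) ⊤
        (Groth.Agent.Ega2.H280.RelSpecAlg.top_le (coequifibered hM) U) ≫
        (th U he).appLE ⊤ ⊤ le_top :=
    (Groth.Agent.Ega2.H280.RelSpecAlg.appLE_congr_hom (aa_eq hM U he) _ _ _).trans h1.symm
  have h3 : (th U he).appLE ⊤ ⊤ le_top = (th U he).appTop := Scheme.Hom.appLE_eq_app _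
  rw [h2, h3, ← th_ι U he, ← ch_taut hM U]
  rfl

theorem aa_preimage : aa hM U he ⁻¹ᵁ TO hM = gmO (Spec Γ(X, U.toOpens)) := by
  have h1 := uO_inf (h := toX hM) (ρ := taut hM) he
  have h2 : aa hM U he ⁻¹ᵁ TO hM = aa hM U he ⁻¹ᵁ (TO hM ⊓ toX hM ⁻¹ᵁ U.toOpens) := by
    apply le_antisymm
    · intro y hy
      exact ⟨hy, top_le_aa hM U he (Opens.mem_top y)⟩
    · intro y hy
      exact hy.1
  have h3 := (𝔸(ULift.{u} (Fin 1); Spec Γ(X, U.toOpens))).basicOpen_res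
    ((aa hM U he).app (toX hM ⁻¹ᵁ U.toOpens) (va (toX hM) (taut hM) e))
    (homOfLE (top_le_aa hM U he)).op
  have h4 : ((𝔸(ULift.{u} (Fin 1); Spec Γ(X, U.toOpens))).presheaf.map
      (homOfLE (top_le_aa hM U he)).op).hom
      ((aa hM U he).app (toX hM ⁻¹ᵁ U.toOpens) (va (toX hM) (taut hM) e)) =
      AffineSpace.coord _ ⟨0⟩ := aa_taut hM U he
  rw [h2, h1, Scheme.preimage_basicOpen]
  refine ((top_inf_eq _).symm.trans h3.symm).trans ?_
  refine (congrArg (𝔸(ULift.{u} (Fin 1); Spec Γ(X, U.toOpens))).basicOpen h4).trans ?_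
  apply le_antisymm
  · exact le_iSup (fun a : ULift.{u} (Fin 1) =>
      (𝔸(ULift.{u} (Fin 1); Spec Γ(X, U.toOpens))).basicOpen (AffineSpace.coord _ a)) ⟨0⟩
  · refine iSup_le fun a => ?_
    rw [Subsingleton.elim a ⟨0⟩]

/-- The chart of the torsor. -/
noncomputable def jj : ((gmO (Spec Γ(X, U.toOpens)) : (𝔸(ULift.{u} (Fin 1);
    Spec Γ(X, U.toOpens))).Opens) : Scheme.{u}) ⟶ ((TO hM : (V hM).Opens) : Scheme.{u}) :=
  IsOpenImmersion.lift (TO hM).ι ((gmO (Spec Γ(X, U.toOpens))).ι ≫ aa hM U he) (by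
    rintro _ ⟨y, rfl⟩
    rw [Scheme.Opens.range_ι]
    have h : (gmO (Spec Γ(X, U.toOpens))).ι y ∈ aa hM U he ⁻¹ᵁ TO hM := by
      rw [aa_preimage]
      exact y.2
    exact h)

theorem jj_ι : jj hM U he ≫ (TO hM).ι = (gmO (Spec Γ(X, U.toOpens))).ι ≫ aa hM U he :=
  IsOpenImmersion.lift_fac _ _ _

theorem isPullback_jj : IsPullback (jj hM U he) (qm (Spec Γ(X, U.toOpens))) (π hM)
    (RelSpec.isAff U).fromSpec := by
  have h1 : IsPullback (jj hM U he) (gmO (Spec Γ(X, U.toOpens))).ι (TO hM).ι (aa hM U he) := by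
    refine IsOpenImmersion.isPullback _ _ _ _ (jj_ι hM U he).symm ?_
    rw [Scheme.Opens.opensRange_ι, Scheme.Opens.opensRange_ι, aa_preimage]
  exact h1.paste_vert (isPullback_aa hM U he)

theorem top_le_jj : (⊤ : ((gmO (Spec Γ(X, U.toOpens)) : (𝔸(ULift.{u} (Fin 1);
    Spec Γ(X, U.toOpens))).Opens) : Scheme.{u}).Opens) ≤ jj hM U he ⁻¹ᵁ (π hM ⁻¹ᵁ U.toOpens) := by
  rw [← Scheme.Hom.comp_preimage, (isPullback_jj hM U he).w, Scheme.Hom.comp_preimage,
    (RelSpec.isAff U).fromSpec_preimage_self]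
  exact le_rfl

theorem jj_taut : ((jj hM U he).appLE (π hM ⁻¹ᵁ U.toOpens) ⊤ (top_le_jj hM U he)).hom
    (va (π hM) (ρT hM) e) = (cd (Spec Γ(X, U.toOpens))).val := by
  have h1 : va (π hM) (ρT hM) e = ((TO hM).ι.appLE (toX hM ⁻¹ᵁ U.toOpens) (π hM ⁻¹ᵁ U.toOpens)
      (le_preimage (π hM) (toX hM) (TO hM).ι rfl U.toOpens)).hom (va (toX hM) (taut hM) e) :=
    Omap_app (π hM) (toX hM) (TO hM).ι rfl U.toOpens ((taut hM).app U.toOpens e)
  have h2 := Scheme.Hom.appLE_comp_appLE (jj hM U he) (TO hM).ι (toX hM ⁻¹ᵁ U.toOpens)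
    (π hM ⁻¹ᵁ U.toOpens) ⊤ (le_preimage (π hM) (toX hM) (TO hM).ι rfl U.toOpens)
    (top_le_jj hM U he)
  have h3 := Scheme.Hom.appLE_comp_appLE (gmO (Spec Γ(X, U.toOpens))).ι (aa hM U he)
    (toX hM ⁻¹ᵁ U.toOpens) ⊤ ⊤ (top_le_aa hM U he) le_top
  have h4 := Groth.Agent.Ega2.H280.RelSpecAlg.appLE_congr_hom (jj_ι hM U he)
    (toX hM ⁻¹ᵁ U.toOpens) ⊤ ((top_le_jj hM U he).trans ((jj hM U he).preimage_mono
      (le_preimage (π hM) (toX hM) (TO hM).ι rfl U.toOpens)))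
  have h5 : (gmO (Spec Γ(X, U.toOpens))).ι.appLE ⊤ ⊤ le_top =
      (gmO (Spec Γ(X, U.toOpens))).ι.appTop := Scheme.Hom.appLE_eq_app _
  rw [h1]
  refine (congr($(h2.trans (h4.trans h3.symm)).hom (va (toX hM) (taut hM) e))).trans ?_
  rw [h5]
  exact congrArg (gmO (Spec Γ(X, U.toOpens))).ι.appTop.hom (aa_taut hM U he)

end chart

end Groth.Agent.Vancyc.H545.GmTors
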