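import Groth.Agent.CohqB.AlgSym
import Groth.Agent.Vancyc.H691.RelSec
import Groth.Agent.Fdesc.LocGenGlue
import Groth.Agent.CohqB.AlgMod

/-!
# The tautological linear map of the relative spectrum of a symmetric algebra

* `exists_hom_of_affine`: a morphism of modules is given by compatible linear maps on affine opens;
* `exists_taut`, `taut hM : M ⟶ (toX hM)_* O`, `secHom_taut`;
* `toV_appLE_taut`: the tautological map is universal.
-/

set_option autoImplicit false
universe u

open CategoryTheory CategoryTheory.Limits AlgebraicGeometry Opposite TopologicalSpace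
open AlgebraicGeometry.Scheme.AffineZariskiSite AlgebraicGeometry.Scheme

namespace Groth.Agent.Vancyc.H545.Taut

open Groth.Agent.Fdesc.LocGen

section affine

variable {X : Scheme.{u}}

theorem le_iSup_affine (U : X.Opens) :
    U ≤ ⨆ V : {V : X.Opens // IsAffineOpen V ∧ V ≤ U}, V.1 := by
  intro x hx
  obtain ⟨_, ⟨V, hV, rfl⟩, hxV, hVU⟩ := X.isBasis_affineOpens.exists_subset_of_mem_open hx U.2
  exact Opens.mem_iSup.mpr ⟨⟨V, hV, hVU⟩, hxV⟩

/-- A morphism of modules is given by compatible linear maps on affine opens. -/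
theorem exists_hom_of_affine {M N : X.Modules}
    (f : ∀ U : X.AffineZariskiSite, Γ(M, U.toOpens) →+ Γ(N, U.toOpens))
    (hlin : ∀ (U : X.AffineZariskiSite) (a : Γ(X, U.toOpens)) (m : Γ(M, U.toOpens)),
      f U (a • m) = a • f U m)
    (hnat : ∀ {U V : X.AffineZariskiSite} (i : U ⟶ V) (m : Γ(M, V.toOpens)),
      f U (res M (toOpens_mono i.le) m) = res N (toOpens_mono i.le) (f V m)) :
    ∃ φ : M ⟶ N, ∀ (U : X.AffineZariskiSite) (m : Γ(M, U.toOpens)), φ.app U.toOpens m = f U m := by
  let α : (toOpensFunctor X).op ⋙ M.presheaf ⟶ (toOpensFunctor X).op ⋙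
      (⟨N.presheaf, N.isSheaf⟩ : Sheaf (Opens.grothendieckTopology X) Ab.{u}).obj :=
    { app := fun U => AddCommGrpCat.ofHom (f U.unop)
      naturality := fun U V i => by
        ext m
        exact hnat i.unop m }
  let β : M.presheaf ⟶ N.presheaf := Functor.IsCoverDense.sheafHom α
  have hβ : ∀ (U : X.AffineZariskiSite) (m : Γ(M, U.toOpens)), β.app (op U.toOpens) m = f U m := by
    intro U m
    have h := Functor.IsCoverDense.sheafHom_restrict_eq α
    exact congr(($(h).app (op U)) m)
  have hβr : ∀ {U V : X.Opens} (h : V ≤ U) (m : Γ(M, U)),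
      (β.app (op V) (res M h m) : Γ(N, V)) = res N h (β.app (op U) m) := by
    intro U V h m
    exact congr($(β.naturality (homOfLE h).op) m)
  have hβl : ∀ (U : X.Opens) (a : Γ(X, U)) (m : Γ(M, U)),
      (β.app (op U) (a • m : Γ(M, U)) : Γ(N, U)) = a • (β.app (op U) m : Γ(N, U)) := by
    intro U a m
    refine res_ext N (fun V : {V : X.Opens // IsAffineOpen V ∧ V ≤ U} => V.1) (fun V => V.2.2)
      (le_iSup_affine U) fun V => ?_
    rw [← hβr, res_smul, res_smul, ← hβr]
    let V' : X.AffineZariskiSite := ⟨V.1, V.2.1⟩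
    exact (hβ V' (ores V.2.2 a • res M V.2.2 m)).trans ((hlin V' _ _).trans
      (congrArg (fun t : Γ(N, V.1) => ores V.2.2 a • t) (hβ V' (res M V.2.2 m)).symm))
  refine ⟨mkHom (fun U => (β.app (op U)).hom) hβl (fun U V h m => hβr h m), fun U m => ?_⟩
  exact hβ U m

end affine

section taut

open Groth.Agent.CohqB.AlgSys Groth.Agent.CohqB.AlgSym Groth.Agent.Ega2.H280.RelSpecAlg
open Groth.Agent.CohqB.SymLoc Groth.Agent.CohqB

variable {X : Scheme.{u}} {M : X.Modules} (hM : Coh.IsQCoh M)

/-- Sections over the inverse image of an affine open are the symmetric algebra. -/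
noncomputable def sc (U : X.AffineZariskiSite) : Γ(V hM, toX hM ⁻¹ᵁ U.toOpens) →+*
    SymmetricAlgebra Γ(X, U.toOpens) Γ(M, U.toOpens) :=
  (secHom (coequifibered hM) U).hom

theorem sc_bijective (U : X.AffineZariskiSite) : Function.Bijective (sc hM U) :=
  (ConcreteCategory.isIso_iff_bijective (secHom (coequifibered hM) U)).1 inferInstance

theorem sc_app (U : X.AffineZariskiSite) (r : Γ(X, U.toOpens)) :
    sc hM U (((toX hM).app U.toOpens).hom r) = algebraMap _ _ r :=
  congr($(app_secHom (coequifibered hM) U).hom r)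

theorem sc_res {U W : X.AffineZariskiSite} (i : U ⟶ W) (x : Γ(V hM, toX hM ⁻¹ᵁ W.toOpens)) :
    sc hM U (((V hM).presheaf.map (homOfLE ((toX hM).preimage_mono (toOpens_mono i.le))).op).hom x) =
      ((symF M).map i.op).hom (sc hM W x) :=
  congr($(secHom_naturality (coequifibered hM) i).hom x)

theorem symF_map_ι {U W : X.AffineZariskiSite} (i : U ⟶ W) (m : Γ(M, W.toOpens)) :
    ((symF M).map i.op).hom (SymmetricAlgebra.ι _ _ m) =
      SymmetricAlgebra.ι _ _ (res M (toOpens_mono i.le) m) :=
  symMap_ι _ _ (res_smul' M i.op) (show Γ(M, W.toOpens) from m)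

/-- The tautological linear map. -/
theorem exists_taut : ∃ ρ : M ⟶ Oalg (toX hM), ∀ (U : X.AffineZariskiSite) (m : Γ(M, U.toOpens)),
    sc hM U (toFun (toX hM) U.toOpens (ρ.app U.toOpens m)) = SymmetricAlgebra.ι _ _ m := by
  choose g hg using fun (U : X.AffineZariskiSite) (m : Γ(M, U.toOpens)) =>
    (sc_bijective hM U).2 (SymmetricAlgebra.ι _ _ m)
  have hinj := fun U => (sc_bijective hM U).1
  let f : ∀ U : X.AffineZariskiSite, Γ(M, U.toOpens) →+ Γ(Oalg (toX hM), U.toOpens) :=
    (fun U => { toFun := fun m => (toFun (toX hM) U.toOpens).symm (g U m)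
                map_zero' := by
                  rw [show g U 0 = 0 from hinj U (by rw [hg, map_zero, map_zero])]
                  rfl
                map_add' := fun m m' => by
                  rw [show g U (m + m') = g U m + g U m' from
                    hinj U (by rw [map_add, hg, hg, hg, map_add])]
                  rfl })
  suffices h : ∃ ρ : M ⟶ Oalg (toX hM), ∀ (U : X.AffineZariskiSite) (m : Γ(M, U.toOpens)),
      ρ.app U.toOpens m = f U m by
    obtain ⟨ρ, hρ⟩ := h
    refine ⟨ρ, fun U m => ?_⟩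
    rw [hρ U m]
    exact hg U m
  refine exists_hom_of_affine f ?_ ?_
  · intro U a m
    apply (toFun (toX hM) U.toOpens).injective
    rw [toFun_smul]
    apply hinj U
    rw [map_mul, sc_app]
    exact (hg U (a • m)).trans (((SymmetricAlgebra.ι _ _).map_smul a m).trans
      ((Algebra.smul_def a _).trans (congrArg (algebraMap _ _ a * ·) (hg U m).symm)))
  · intro U W i m
    apply hinj U
    refine (hg U _).trans ?_
    rw [← symF_map_ι, ← hg W m]
    exact (sc_res hM i (g W m)).symm

/-- The tautological linear map. -/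
noncomputable def taut : M ⟶ Oalg (toX hM) := (exists_taut hM).choose

theorem sc_taut (U : X.AffineZariskiSite) (m : Γ(M, U.toOpens)) :
    sc hM U (toFun (toX hM) U.toOpens ((taut hM).app U.toOpens m)) = SymmetricAlgebra.ι _ _ m :=
  (exists_taut hM).choose_spec U m

theorem toV_appLE {T : Scheme.{u}} (b : T ⟶ X) (ρ : M ⟶ Oalg b)
    (U : X.AffineZariskiSite) (h : b ⁻¹ᵁ U.toOpens ≤ toV hM b ρ ⁻¹ᵁ (toX hM ⁻¹ᵁ U.toOpens))
    (x : Γ(V hM, toX hM ⁻¹ᵁ U.toOpens)) :
    ((toV hM b ρ).appLE (toX hM ⁻¹ᵁ U.toOpens) (b ⁻¹ᵁ U.toOpens) h).hom x =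
      ψ b ρ U.toOpens (sc hM U x) :=
  congr($(Groth.Agent.Vancyc.H691.RelSec.lift_appLE (coequifibered hM) (liftData b ρ) U h).hom x)

/-- **Universality** of the tautological map. -/
theorem taut_Omap {T : Scheme.{u}} (b : T ⟶ X) (ρ : M ⟶ Oalg b) :
    taut hM ≫ Omap b (toX hM) (toV hM b ρ) (toV_toX hM b ρ) = ρ := by
  apply Groth.Agent.CohqB.AlgMod.hom_ext_affine
  intro U hU m
  let U' : X.AffineZariskiSite := ⟨U, hU⟩
  apply (toFun b U).injective
  refine (Omap_app b (toX hM) (toV hM b ρ) (toV_toX hM b ρ) U ((taut hM).app U m)).trans ?_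
  refine (toV_appLE hM b ρ U' _ _).trans ?_
  refine (congrArg (ψ b ρ U'.toOpens) (sc_taut hM U' m)).trans ?_
  exact ψ_ι b ρ U m

end taut

end Groth.Agent.Vancyc.H545.Taut
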